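import Groth.Agent.Lib.FlatH4.FlatAt
import Groth.Agent.Lib.FlatElem4.Basic
import Mathlib.RingTheory.LocalRing.ResidueField.Fiber
import Mathlib.RingTheory.Localization.BaseChange

/-!
# Flatness at primes: base change and descent for a pushout square
-/

set_option linter.style.haveILetI false

universe u

open TensorProduct

namespace Groth.Agent.FlatAt14

variable {R S R' S' : Type u} [CommRing R] [CommRing S] [CommRing R'] [CommRing S']
  [Algebra R S] [Algebra R R'] [Algebra S S'] [Algebra R' S'] [Algebra R S'] [IsScalarTower R S S']
  [IsScalarTower R R' S'] [Algebra.IsPushout R S R' S']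

/-- Flatness at a prime is stable under base change. -/
theorem flatAt_baseChange {M M' : Type u} [AddCommGroup M] [Module S M] [Module R M] [IsScalarTower R S M]
    [AddCommGroup M'] [Module S' M'] [Module R' M'] [IsScalarTower R' S' M'] [Module S M'] [IsScalarTower S S' M']
    (f : M →ₗ[S] M') (hf : IsBaseChange S' f) (q : Ideal S') [q.IsPrime]
    (h : Module.Flat R (LocalizedModule (q.comap (algebraMap S S')).primeCompl M)) :
    Module.Flat R' (LocalizedModule q.primeCompl M') := by
  haveI : Algebra.IsPushout R R' S S' := Algebra.IsPushout.symm inferInstance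
  let e : R' ⊗[R] M ≃ₗ[R'] M' :=
    (Algebra.IsPushout.cancelBaseChange R R' S S' M).symm ≪≫ₗ hf.equiv.restrictScalars R'
  have he : ∀ m : M, e ((1 : R') ⊗ₜ m) = f m := fun m => by
    simp only [e, LinearEquiv.trans_apply, Algebra.IsPushout.cancelBaseChange_symm_tmul, map_one,
      LinearEquiv.restrictScalars_apply]
    rw [IsBaseChange.equiv_tmul, one_smul]
  haveI := h
  refine FlatH4.flat_localized_baseChange (R := R) (S := S) (M := M) R' (algebraMap S S') q e ?_
  intro s m
  rw [he, he, map_smul, algebraMap_smul]

/-- A localization of the pushout is flat over the first factor where the second factor is flat. -/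
theorem flat_localization_of_flat (q : Ideal S') [q.IsPrime]
    (h : Module.Flat R (Localization.AtPrime (q.comap (algebraMap R' S')))) :
    Module.Flat S (Localization.AtPrime q) := by
  haveI : Algebra.IsPushout R R' S S' := Algebra.IsPushout.symm inferInstance
  have h1 : Module.Flat S (LocalizedModule q.primeCompl S') :=
    flatAt_baseChange (R := R) (S := R') (R' := S) (S' := S') (M := R') (M' := S')
      (Algebra.linearMap R' S') (IsBaseChange.linearMap R' S') q h
  exact h1

/-- Flatness at a prime descends along base changes which are flat at a prime above it. -/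
theorem flatAt_descent {M M' : Type u} [AddCommGroup M] [Module S M] [Module R M] [IsScalarTower R S M]
    [AddCommGroup M'] [Module S' M'] [Module R' M'] [IsScalarTower R' S' M'] [Module S M'] [IsScalarTower S S' M']
    (f : M →ₗ[S] M') (hf : IsBaseChange S' f) (q : Ideal S') [q.IsPrime]
    (hflat : Module.Flat R (Localization.AtPrime (q.comap (algebraMap R' S'))))
    (h : Module.Flat R' (LocalizedModule q.primeCompl M')) :
    Module.Flat R (LocalizedModule (q.comap (algebraMap S S')).primeCompl M) := by
  let p := q.comap (algebraMap R' S')
  let T := Localization.AtPrime q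
  let L := LocalizedModule q.primeCompl M'
  haveI : Module.Flat S T := flat_localization_of_flat q hflat
  haveI : Module.Flat R (Localization.AtPrime p) := hflat
  haveI := h
  let φ : Localization.AtPrime p →+* T := Localization.localRingHom p q (algebraMap R' S') rfl
  letI : Module (Localization.AtPrime p) L := Module.compHom L φ
  haveI : IsScalarTower R' (Localization.AtPrime p) L := IsScalarTower.of_algebraMap_smul fun r x => by
    show φ (algebraMap R' _ r) • x = r • x
    rw [Localization.localRingHom_to_map, algebraMap_smul, algebraMap_smul]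
  letI : Module R L := Module.compHom L (algebraMap R R')
  haveI : IsScalarTower R R' L := IsScalarTower.of_algebraMap_smul fun r x => rfl
  haveI : IsScalarTower R (Localization.AtPrime p) L := IsScalarTower.of_algebraMap_smul fun r x => by
    rw [IsScalarTower.algebraMap_apply R R' (Localization.AtPrime p), algebraMap_smul]
    rfl
  haveI : Module.Flat (Localization.AtPrime p) L :=
    (Module.flat_iff_of_isLocalization (Localization.AtPrime p) p.primeCompl (M := L)).2 inferInstance
  haveI : Module.Flat R L := Module.Flat.trans R (Localization.AtPrime p) L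
  haveI : IsScalarTower R T L := IsScalarTower.of_algebraMap_smul fun r x => by
    rw [IsScalarTower.algebraMap_apply R R' T, algebraMap_smul]
    rfl
  let g : M →ₗ[S] L := ((LocalizedModule.mkLinearMap q.primeCompl M').restrictScalars S) ∘ₗ f
  have hg : IsBaseChange T g :=
    hf.comp ((isLocalizedModule_iff_isBaseChange q.primeCompl T _).1 inferInstance)
  rw [FlatElem4.flat_localizedModule_iff]
  refine FlatElem4.killed_primeCompl_of_baseChange M hg (q.comap (algebraMap S S'))
    (IsLocalRing.maximalIdeal T) ?_ ?_
  · rw [IsScalarTower.algebraMap_eq S S' T, ← Ideal.comap_comap]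
    exact congrArg (Ideal.comap (algebraMap S S')) (IsLocalization.AtPrime.comap_maximalIdeal T q)
  · intro P P' _ _ _ _ ψ hψ z hz
    refine ⟨1, one_mem _, ?_⟩
    rw [one_smul]
    exact Module.Flat.lTensor_preserves_injective_linearMap (M := L) ψ hψ (by rw [hz, map_zero])

/-- Compatible primes of the factors lift to the pushout. -/
theorem exists_prime_comap (p : Ideal R') [p.IsPrime] (q : Ideal S) [q.IsPrime]
    (h : p.comap (algebraMap R R') = q.comap (algebraMap R S)) :
    ∃ Q : Ideal S', Q.IsPrime ∧ Q.comap (algebraMap S S') = q ∧ Q.comap (algebraMap R' S') = p := by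
  let r := q.comap (algebraMap R S)
  haveI : q.LiesOver r := ⟨rfl⟩
  haveI : p.LiesOver r := ⟨h.symm⟩
  let κq := q.ResidueField
  let κp := p.ResidueField
  letI : Algebra r.ResidueField κq := (Ideal.ResidueField.map r q (algebraMap R S) rfl).toAlgebra
  letI : Algebra r.ResidueField κp := (Ideal.ResidueField.map r p (algebraMap R R') h.symm).toAlgebra
  let W := κq ⊗[r.ResidueField] κp
  obtain ⟨m, hm⟩ := Ideal.exists_maximal W
  haveI := hm
  let K := W ⧸ m
  letI : Field K := Ideal.Quotient.field m
  let a : S →+* K := ((Ideal.Quotient.mk m).comp Algebra.TensorProduct.includeLeftRingHom).comp (algebraMap S κq)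
  let b : R' →+* K := ((Ideal.Quotient.mk m).comp
    (Algebra.TensorProduct.includeRight : κp →ₐ[r.ResidueField] W).toRingHom).comp (algebraMap R' κp)
  letI : Algebra R K := (a.comp (algebraMap R S)).toAlgebra
  let A : S →ₐ[R] K := { a with commutes' := fun x => rfl }
  have hcomm : ∀ x : R, b (algebraMap R R' x) = a (algebraMap R S x) := by
    intro x
    have e1 : algebraMap S κq (algebraMap R S x) = algebraMap r.ResidueField κq (algebraMap R r.ResidueField x) :=
      (Ideal.ResidueField.map_algebraMap ..).symm
    have e2 : algebraMap R' κp (algebraMap R R' x) = algebraMap r.ResidueField κp (algebraMap R r.ResidueField x) :=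
      (Ideal.ResidueField.map_algebraMap ..).symm
    simp only [a, b, RingHom.coe_comp, Function.comp_apply, e1, e2]
    congr 1
    exact ((Algebra.TensorProduct.includeRight : κp →ₐ[r.ResidueField] W).commutes _).trans
      ((Algebra.TensorProduct.includeLeft : κq →ₐ[r.ResidueField] W).commutes _).symm
  let B : R' →ₐ[R] K := { b with commutes' := hcomm }
  let F : S' →ₐ[R] K := Algebra.pushoutDesc (R := R) (S := S) (R' := R') S' A B fun x y => Commute.all _ _
  have hA : ∀ x, F (algebraMap S S' x) = A x := fun x => Algebra.pushoutDesc_left ..
  have hB : ∀ x, F (algebraMap R' S' x) = B x := fun x => Algebra.pushoutDesc_right ..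
  refine ⟨RingHom.ker F.toRingHom, RingHom.ker_isPrime _, ?_, ?_⟩
  · refine Ideal.ext fun x => ?_
    rw [Ideal.mem_comap, RingHom.mem_ker, ← Ideal.algebraMap_residueField_eq_zero (I := q)]
    exact (iff_of_eq (congrArg (· = 0) (hA x))).trans (map_eq_zero_iff
      ((Ideal.Quotient.mk m).comp Algebra.TensorProduct.includeLeftRingHom : κq →+* K) (RingHom.injective _))
  · refine Ideal.ext fun x => ?_
    rw [Ideal.mem_comap, RingHom.mem_ker, ← Ideal.algebraMap_residueField_eq_zero (I := p)]
    exact (iff_of_eq (congrArg (· = 0) (hB x))).trans (map_eq_zero_iff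
      ((Ideal.Quotient.mk m).comp (Algebra.TensorProduct.includeRight : κp →ₐ[r.ResidueField] W).toRingHom : κp →+* K)
      (RingHom.injective _))

end Groth.Agent.FlatAt14
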